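import Cfsg.Agent.H955.FSAmb
import Cfsg.Agent.H721.SR.Orth

/-!
# TEAM SR, second part (S4970): Frobenius-Schur indicators, definitions

* `FR G` : if all elements of `G` are real then all indicators are one (row predicate);
* `FSZ z` (`z` central, `z² = 1`): `ν(χ) ≠ -χ(z)/χ(1)` for all irreducible `χ`; `FSZ 1` means: no indicator is `-1`;
* `Isom B`, `zel ε`, `Red B K`, `Hyp n` : the geometric induction.
-/

set_option autoImplicit false

universe u

namespace Cfsg.Agent.H721.FR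

open Cfsg Cfsg.Agent.H955.FS Cfsg.Agent.H721.SR Module

/-- row predicate -/
def FR (G : Type u) [Group G] : Prop := (∀ g : G, IsConj g g⁻¹) → FSGood False G

/-- no irreducible character has indicator `-χ(z)/χ(1)` -/
def FSZ {G : Type u} [Group G] (z : G) : Prop :=
  ∀ χ : G → ℂ, IsIrrCharacter G χ → fsi χ * χ z ≠ - χ 1

/-- the same for a subgroup -/
def FSZs {Γ : Type u} [Group Γ] (Y : Subgroup Γ) (z : Γ) : Prop := ∃ hz : z ∈ Y, FSZ (⟨z, hz⟩ : Y)

theorem FR.of_good {G : Type u} [Group G] [Finite G] (h : FSGood True G) : FR G :=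
  fun hr => h.of_isConj_inv hr

theorem FR.of_good' {G : Type u} [Group G] (h : FSGood False G) : FR G := fun _ => h

theorem FR.of_nrel {G : Type u} [Group G] (h : NRel G) : FR G := by
  obtain ⟨g, hg⟩ := h
  intro hr
  exact absurd (hr g) hg

theorem FR.congr {G H : Type u} [Group G] [Group H] [Finite G] (e : G ≃* H) (h : FR G) : FR H := by
  intro hr
  refine (h fun g => ?_).of_mulEquiv e
  obtain ⟨x, hx⟩ := isConj_iff.1 (hr (e g))
  refine isConj_iff.2 ⟨e.symm x, e.injective ?_⟩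
  simpa using hx

theorem fsz_one_iff {G : Type u} [Group G] [Finite G] : FSZ (1 : G) ↔ FSGood True G := by
  constructor
  · intro h χ hχ
    rcases fsi_cases hχ with h1 | h1 | h1
    · exact Or.inr ⟨trivial, h1⟩
    · exact Or.inl h1
    · refine absurd ?_ (h χ hχ)
      rw [h1]
      ring
  · intro h χ hχ h0
    have h1 : χ 1 ≠ 0 := by
      obtain ⟨d, hd, hd1⟩ := Cfsg.Agent.Characters.Core.isIrr_apply_one hχ
      rw [hd1]
      exact_mod_cast hd.ne'
    have h2 : fsi χ = -1 := by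
      apply mul_right_cancel₀ h1
      rw [h0]
      ring
    rcases h χ hχ with h3 | ⟨-, h3⟩
    · rw [h2] at h3
      norm_num at h3
    · rw [h2] at h3
      norm_num at h3

/-! ### Geometry -/

variable {F V : Type u} [Field F] [AddCommGroup V] [Module F V]

/-- the isometry group of a bilinear form -/
def Isom (B : V →ₗ[F] V →ₗ[F] F) : Subgroup (V ≃ₗ[F] V) where
  carrier := {g | ∀ x y, B (g x) (g y) = B x y}
  mul_mem' := fun {a b} ha hb x y => by
    show B (a (b x)) (a (b y)) = _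
    rw [ha, hb]
  one_mem' := fun _ _ => rfl
  inv_mem' := fun {a} ha x y => by
    show B (a.symm x) (a.symm y) = _
    rw [← ha, LinearEquiv.apply_symm_apply, LinearEquiv.apply_symm_apply]

theorem mem_isom {B : V →ₗ[F] V →ₗ[F] F} {g : V ≃ₗ[F] V} : g ∈ Isom B ↔ ∀ x y, B (g x) (g y) = B x y := Iff.rfl

/-- the central element `1` (orthogonal case) or `-1` (symplectic case) -/
noncomputable def zel (V : Type u) [AddCommGroup V] [Module F V] (ε : F) : V ≃ₗ[F] V :=
  open Classical in if ε = 1 then 1 else LinearEquiv.neg F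

/-- orthogonal space -/
def perp (B : V →ₗ[F] V →ₗ[F] F) (U : Submodule F V) : Submodule F V where
  carrier := {x | ∀ y ∈ U, B y x = 0}
  add_mem' := fun {a b} ha hb y hy => by rw [map_add, ha y hy, hb y hy, add_zero]
  zero_mem' := fun y _ => map_zero _
  smul_mem' := fun c x hx y hy => by rw [map_smul, hx y hy, smul_zero]

theorem mem_perp {B : V →ₗ[F] V →ₗ[F] F} {U : Submodule F V} {x : V} : x ∈ perp B U ↔ ∀ y ∈ U, B y x = 0 := Iff.rfl

/-- `K` preserves a proper nondegenerate subspace, or an orthogonal decomposition into two subspaces -/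
def Red (B : V →ₗ[F] V →ₗ[F] F) (K : Subgroup (V ≃ₗ[F] V)) : Prop :=
  ∃ U : Submodule F V, U ≠ ⊥ ∧ U ≠ ⊤ ∧ NdOn B U ∧
    ∀ g ∈ K, U.map (g : V →ₗ[F] V) = U ∨ U.map (g : V →ₗ[F] V) = perp B U

/-- nondegenerate `ε`-symmetric form over a finite field of odd order (of order `1 mod 4` if `ε = -1`) -/
structure Fm (B : V →ₗ[F] V →ₗ[F] F) (ε : F) : Prop where
  two : (2 : F) ≠ 0
  eps : ε = 1 ∨ (ε = -1 ∧ Nat.card F % 4 = 1)
  symm : ∀ x y, B x y = ε * B y x
  nondeg : ∀ x, (∀ y, B x y = 0) → x = 0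

/-- the induction statement in dimension `n` -/
def Hyp (n : ℕ) : Prop :=
  ∀ (F V : Type u) [Field F] [Finite F] [AddCommGroup V] [Module F V] [FiniteDimensional F V]
    (B : V →ₗ[F] V →ₗ[F] F) (ε : F), Fm B ε → finrank F V = n → FSZs (Isom B) (zel V ε)

/-- the conclusion for one pair `c, P` -/
def Cov (B : V →ₗ[F] V →ₗ[F] F) (ε : F) (c : V ≃ₗ[F] V) (P : Subgroup (V ≃ₗ[F] V)) : Prop :=
  ∃ Y : Subgroup (V ≃ₗ[F] V), Y ≤ Isom B ∧ c ∈ Y ∧ P ≤ Y ∧ FSZs Y (zel V ε)

/-- `P` is a maximal 2-subgroup of the group of isometries which centralise or invert `c` -/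
structure Mx (B : V →ₗ[F] V →ₗ[F] F) (c : V ≃ₗ[F] V) (P : Subgroup (V ≃ₗ[F] V)) : Prop where
  le : P ≤ Isom B
  two : IsPGroup 2 P
  act : ∀ g ∈ P, g * c * g⁻¹ = c ∨ g * c * g⁻¹ = c⁻¹
  max : ∀ P' : Subgroup (V ≃ₗ[F] V), P ≤ P' → P' ≤ Isom B → IsPGroup 2 P' →
    (∀ g ∈ P', g * c * g⁻¹ = c ∨ g * c * g⁻¹ = c⁻¹) → P' = P

end Cfsg.Agent.H721.FR
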